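import Mathlib
import Groth.Prelude.Def_EtMil
import Groth.Agent.MilnorFlatLib.Basic
import Groth.Agent.MilnorGlueLib.Basic

/-!
Glued modules over the base change `(D', D, C', C)` of a Milnor square.
-/

set_option autoImplicit false
universe u

open TensorProduct

namespace Groth.Agent.MilnorRelLib

set_option maxHeartbeats 400000

open Groth.Agent.MilnorGlueLib

section finite

variable {D' D C' C : Type u} [CommRing D'] [CommRing D] [CommRing C'] [CommRing C]
  [Algebra D' D] [Algebra D' C'] [Algebra D C] [Algebra C' C] [Algebra D' C]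
  [IsScalarTower D' D C] [IsScalarTower D' C' C]
  {N M' : Type u} [AddCommGroup N] [Module D N] [Module D' N] [IsScalarTower D' D N]
  [AddCommGroup M'] [Module C' M'] [Module D' M'] [IsScalarTower D' C' M']
  (φ : C ⊗[D] N ≃ₗ[C] C ⊗[C'] M')

lemma fst_surjective (hC : Function.Surjective (algebraMap C' C)) :
    Function.Surjective (EtMil.glueFst D' φ) := fun n => by
  obtain ⟨m, hm⟩ := exists_one_tmul hC (φ ((1 : C) ⊗ₜ[D] n))
  exact ⟨⟨(n, m), hm⟩, rfl⟩

lemma span_snd (hC : Function.Surjective (algebraMap C' C)) :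
    Submodule.span C' (Set.range (EtMil.glueSnd D' φ)) = ⊤ := by
  rw [eq_top_iff]
  intro m _
  have key : ∀ t : C ⊗[D] N, ∃ y ∈ Submodule.span C' (Set.range (EtMil.glueSnd D' φ)),
      φ t = (1 : C) ⊗ₜ[C'] y := fun t => by
    induction t using TensorProduct.induction_on with
    | zero => exact ⟨0, zero_mem _, by rw [map_zero, TensorProduct.tmul_zero]⟩
    | add p q hp hq =>
      obtain ⟨y, hy, hy'⟩ := hp
      obtain ⟨z, hz, hz'⟩ := hq
      exact ⟨y + z, add_mem hy hz, by rw [map_add, hy', hz', TensorProduct.tmul_add]⟩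
    | tmul a n =>
      obtain ⟨a', rfl⟩ := hC a
      obtain ⟨z, rfl⟩ := fst_surjective (D' := D') φ hC n
      refine ⟨a' • EtMil.glueSnd D' φ z, Submodule.smul_mem _ _ (Submodule.subset_span ⟨z, rfl⟩), ?_⟩
      rw [show algebraMap C' C a' ⊗ₜ[D] EtMil.glueFst D' φ z =
          algebraMap C' C a' • ((1 : C) ⊗ₜ[D] EtMil.glueFst D' φ z) by
        rw [TensorProduct.smul_tmul', smul_eq_mul, mul_one], map_smul,
        show φ ((1 : C) ⊗ₜ[D] EtMil.glueFst D' φ z) = (1 : C) ⊗ₜ[C'] EtMil.glueSnd D' φ z from z.2,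
        algebraMap_smul, TensorProduct.tmul_smul]
  obtain ⟨y, hy, hy'⟩ := key (φ.symm ((1 : C) ⊗ₜ[C'] m))
  rw [φ.apply_symm_apply] at hy'
  have h0 : (1 : C) ⊗ₜ[C'] (m - y) = 0 := by rw [TensorProduct.tmul_sub, hy', sub_self]
  have h1 : m - y ∈ Submodule.span C' (Set.range (EtMil.glueSnd D' φ)) :=
    Submodule.subset_span ⟨⟨((0 : N), m - y), show φ ((1 : C) ⊗ₜ[D] (0 : N)) = _ by
      rw [TensorProduct.tmul_zero, map_zero, h0]⟩, rfl⟩
  simpa using add_mem hy h1

theorem finite_glue (hD : Function.Surjective (algebraMap D' D))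
    (hC : Function.Surjective (algebraMap C' C))
    (hW : ∀ j : C', algebraMap C' C j = 0 → ∃ r : D', algebraMap D' D r = 0 ∧ algebraMap D' C' r = j)
    [Module.Finite D N] [Module.Finite C' M'] : Module.Finite D' (EtMil.glue D' φ) := by
  classical
  obtain ⟨sn, hsn⟩ := Module.Finite.fg_top (R := D) (M := N)
  obtain ⟨sm, hsm, hsm'⟩ := (Submodule.fg_span_iff_fg_span_finset_subset _).1
    (show (Submodule.span C' (Set.range (EtMil.glueSnd D' φ))).FG by
      rw [span_snd (D' := D') φ hC]; exact Module.Finite.fg_top)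
  rw [span_snd (D' := D') φ hC] at hsm'
  choose ln hln using fun n => fst_surjective (D' := D') φ hC n
  choose lm hlm using fun x : sm => hsm x.2
  let G : Finset (EtMil.glue D' φ) := sn.image ln ∪ sm.attach.image lm
  let S : Submodule D' (EtMil.glue D' φ) := Submodule.span D' G
  have hG1 : ∀ n : N, ∃ w ∈ S, EtMil.glueFst D' φ w = n := by
    intro n
    have hn : n ∈ Submodule.span D (sn : Set N) := by rw [hsn]; trivial
    induction hn using Submodule.span_induction with
    | mem x hx =>
      exact ⟨ln x, Submodule.subset_span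
        (Finset.mem_union_left _ (Finset.mem_image_of_mem _ hx)), hln x⟩
    | zero => exact ⟨0, zero_mem _, map_zero _⟩
    | add x y _ _ hx hy =>
      obtain ⟨a, ha, rfl⟩ := hx
      obtain ⟨b, hb, rfl⟩ := hy
      exact ⟨a + b, add_mem ha hb, map_add _ _ _⟩
    | smul c x _ hx =>
      obtain ⟨a, ha, rfl⟩ := hx
      obtain ⟨r, rfl⟩ := hD c
      exact ⟨r • a, Submodule.smul_mem _ _ ha, by rw [map_smul, algebraMap_smul]⟩
  have hG2 : ∀ m : M', m ∈ Submodule.span C' ((fun z => EtMil.glueSnd D' φ z) '' (S : Set _)) := by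
    intro m
    have hm : m ∈ Submodule.span C' (sm : Set M') := by rw [← hsm']; trivial
    refine Submodule.span_mono (fun x hx => ?_) hm
    exact ⟨lm ⟨x, hx⟩, Submodule.subset_span
      (Finset.mem_union_right _ (Finset.mem_image_of_mem _ (Finset.mem_attach _ _))), hlm ⟨x, hx⟩⟩
  refine ⟨⟨G, eq_top_iff.2 fun z _ => ?_⟩⟩
  obtain ⟨w, hw, hw'⟩ := hG1 (EtMil.glueFst D' φ z)
  have h0 : (1 : C) ⊗ₜ[C'] (EtMil.glueSnd D' φ (z - w)) = 0 := by
    have h := (z - w).2
    change φ ((1 : C) ⊗ₜ[D] EtMil.glueFst D' φ (z - w)) = (1 : C) ⊗ₜ[C'] EtMil.glueSnd D' φ (z - w) at h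
    rw [map_sub (EtMil.glueFst D' φ), hw', sub_self, TensorProduct.tmul_zero, map_zero] at h
    exact h.symm
  have key : ∀ x ∈ RingHom.ker (algebraMap C' C) • (⊤ : Submodule C' M'),
      ∃ v ∈ S, EtMil.glueFst D' φ v = 0 ∧ EtMil.glueSnd D' φ v = x := by
    intro x hx
    refine Submodule.smul_induction_on
      (p := fun x => ∃ v ∈ S, EtMil.glueFst D' φ v = 0 ∧ EtMil.glueSnd D' φ v = x) hx
      (fun i hi m hm' => ?_) (fun a b ha hb => ?_)
    · clear hm'
      have hm := hG2 m
      induction hm using Submodule.span_induction generalizing i with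
      | mem x hx =>
        obtain ⟨g, hg, rfl⟩ := hx
        obtain ⟨r, hr1, hr2⟩ := hW i hi
        refine ⟨r • g, Submodule.smul_mem _ _ hg, ?_, ?_⟩
        · rw [map_smul, ← algebraMap_smul D r, hr1, zero_smul]
        · rw [map_smul, ← algebraMap_smul C' r, hr2]
      | zero => exact ⟨0, zero_mem _, map_zero _, by rw [map_zero, smul_zero]⟩
      | add a b _ _ ha hb =>
        obtain ⟨v, hv, hv1, hv2⟩ := ha i hi
        obtain ⟨u, hu, hu1, hu2⟩ := hb i hi
        exact ⟨v + u, add_mem hv hu, by rw [map_add, hv1, hu1, add_zero],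
          by rw [map_add, hv2, hu2, smul_add]⟩
      | smul c a _ ha =>
        obtain ⟨v, hv, hv1, hv2⟩ := ha (i * c) ((RingHom.ker (algebraMap C' C)).mul_mem_right c hi)
        exact ⟨v, hv, hv1, by rw [hv2, mul_smul]⟩
    · obtain ⟨v, hv, hv1, rfl⟩ := ha
      obtain ⟨u, hu, hu1, rfl⟩ := hb
      exact ⟨v + u, add_mem hv hu, by rw [map_add, hv1, hu1, add_zero], map_add _ _ _⟩
  obtain ⟨v, hv, hv1, hv2⟩ := key _ (ker_tmul hC h0)
  have hz : z - w = v := by
    refine Subtype.ext (Prod.ext ?_ ?_)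
    · change EtMil.glueFst D' φ (z - w) = EtMil.glueFst D' φ v
      rw [hv1, map_sub, hw', sub_self]
    · exact hv2.symm
  have := add_mem hv hw
  rwa [← hz, sub_add_cancel] at this

end finite

theorem surjective_of_pushout {B' B : Type u} [CommRing B'] [CommRing B] [Algebra B' B]
    (hB : Function.Surjective (algebraMap B' B)) (D' D : Type u) [CommRing D'] [CommRing D]
    [Algebra B' D'] [Algebra B D] [Algebra D' D] [Algebra B' D] [IsScalarTower B' B D]
    [IsScalarTower B' D' D] [Algebra.IsPushout B' B D' D] :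
    Function.Surjective (algebraMap D' D) := by
  intro d
  obtain ⟨t, rfl⟩ := (Algebra.IsPushout.equiv B' B D' D).surjective d
  induction t using TensorProduct.induction_on with
  | zero => exact ⟨0, by simp⟩
  | add x y hx hy =>
    obtain ⟨a, ha⟩ := hx
    obtain ⟨b, hb⟩ := hy
    exact ⟨a + b, by rw [map_add, ha, hb, map_add]⟩
  | tmul b x =>
    obtain ⟨r, rfl⟩ := hB b
    refine ⟨algebraMap B' D' r * x, ?_⟩
    rw [Algebra.IsPushout.equiv_tmul, map_mul, ← IsScalarTower.algebraMap_apply,
      ← IsScalarTower.algebraMap_apply]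

section square

variable {B' B A' A : Type u} [CommRing B'] [CommRing B] [CommRing A'] [CommRing A]
  [Algebra B' B] [Algebra B' A'] [Algebra B A] [Algebra A' A] [Algebra B' A]
  [IsScalarTower B' B A] [IsScalarTower B' A' A] (hsq : EtMil.IsFibreSquare B' B A' A)
  (D' D C' C : Type u) [CommRing D'] [CommRing D] [CommRing C'] [CommRing C]
  [Algebra B' D'] [Algebra B D] [Algebra A' C'] [Algebra A C]
  [Algebra D' D] [Algebra B' D] [IsScalarTower B' B D] [IsScalarTower B' D' D] [Algebra.IsPushout B' B D' D]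
  [Algebra D' C'] [Algebra B' C'] [IsScalarTower B' A' C'] [IsScalarTower B' D' C'] [Algebra.IsPushout B' A' D' C']
  [Algebra D' C] [Algebra B' C] [IsScalarTower B' A C] [IsScalarTower B' D' C] [Algebra.IsPushout B' A D' C]
  [Algebra C' C] [IsScalarTower D' C' C] [Algebra A' C] [IsScalarTower A' A C] [IsScalarTower A' C' C]

include hsq in
omit [Algebra.IsPushout B' B D' D] in
lemma weak_square : Function.Surjective (algebraMap C' C) ∧
    ∀ j : C', algebraMap C' C j = 0 →
      ∃ r : D', algebraMap D' D r = 0 ∧ algebraMap D' C' r = j := by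
  let e' := Algebra.IsPushout.equiv B' A' D' C'
  let e := Algebra.IsPushout.equiv B' A D' C
  let ψ := (IsScalarTower.toAlgHom B' A' A).toLinearMap
  have hcomm : ∀ t, algebraMap C' C (e' t) = e (ψ.rTensor D' t) := by
    intro t
    induction t using TensorProduct.induction_on with
    | zero => simp
    | add x y hx hy => rw [map_add, map_add, hx, hy, map_add, map_add]
    | tmul a x =>
      rw [Algebra.IsPushout.equiv_tmul, LinearMap.rTensor_tmul, Algebra.IsPushout.equiv_tmul,
        map_mul, ← IsScalarTower.algebraMap_apply A' C' C, ← IsScalarTower.algebraMap_apply D' C' C]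
      simp [ψ, ← IsScalarTower.algebraMap_apply A' A C]
  refine ⟨fun c => ?_, fun j hj => ?_⟩
  · obtain ⟨t, ht⟩ := LinearMap.rTensor_surjective D' (g := ψ) hsq.1 (e.symm c)
    exact ⟨e' t, by rw [hcomm, ht, e.apply_symm_apply]⟩
  · obtain ⟨t, rfl⟩ := e'.surjective j
    rw [hcomm] at hj
    obtain ⟨w, rfl⟩ := (rTensor_exact D' (LinearMap.exact_subtype_ker_map ψ) hsq.1 t).1
      (e.injective (hj.trans (map_zero e).symm))
    clear hj
    induction w using TensorProduct.induction_on with
    | zero => exact ⟨0, map_zero _, by simp⟩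
    | add x y hx hy =>
      obtain ⟨a, ha1, ha2⟩ := hx
      obtain ⟨b, hb1, hb2⟩ := hy
      exact ⟨a + b, by rw [map_add, ha1, hb1, add_zero], by rw [map_add, ha2, hb2, map_add, map_add]⟩
    | tmul i x =>
      obtain ⟨r, hr1, hr2⟩ := Groth.Agent.MilnorFlatLib.exists_of_ker hsq (a := (i : A')) i.2
      refine ⟨algebraMap B' D' r * x, ?_, ?_⟩
      · rw [map_mul, ← IsScalarTower.algebraMap_apply, IsScalarTower.algebraMap_apply B' B D, hr1,
          map_zero, zero_mul]
      · rw [LinearMap.rTensor_tmul, Algebra.IsPushout.equiv_tmul, map_mul, ← IsScalarTower.algebraMap_apply,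
          IsScalarTower.algebraMap_apply B' A' C', hr2]
        rfl

end square

end Groth.Agent.MilnorRelLib
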