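import Mathlib
import Groth.Prelude.Def_EtMil
import Groth.Agent.MilnorFlatLib.Basic
import Groth.Agent.MilnorGlueLib.Basic
import Groth.Agent.MilnorRelLib.Basic

/-!
Finite presentation of glued modules in the relative setting.
-/

set_option autoImplicit false
universe u

open TensorProduct

namespace Groth.Agent.MilnorRelLib

set_option maxHeartbeats 800000

section corner

attribute [local instance] Algebra.TensorProduct.rightAlgebra

/-- One corner: the relations of a flat `G` become finitely generated. -/
theorem finite_corner {R C T T' C' : Type u} [CommRing R] [CommRing C] [CommRing T] [CommRing T']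
    [CommRing C'] [Algebra R C] [Algebra R T] [Algebra T T'] [Algebra R T'] [IsScalarTower R T T']
    [Algebra C C'] [Algebra T' C'] [Algebra R C'] [IsScalarTower R C C'] [IsScalarTower R T' C']
    [Algebra T C'] [IsScalarTower T T' C'] [IsScalarTower R T C']
    [Algebra.IsPushout R C T' C'] [Module.FinitePresentation T T']
    {G N : Type u} [AddCommGroup G] [Module R G] [Module T G] [IsScalarTower R T G] [Module.Flat R G]
    [AddCommGroup N] [Module C' N] [Module.FinitePresentation C' N] [Module C N]
    [IsScalarTower C C' N] [Module T N] [IsScalarTower T C' N] [Module R N] [IsScalarTower R C N]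
    [IsScalarTower R T N]
    (s : G →ₗ[T] N) (hs : Function.Bijective ((s.restrictScalars R).liftBaseChange C))
    {n : ℕ} (π : (Fin n → T) →ₗ[T] G) (hπ : Function.Surjective π) :
    Module.Finite (C ⊗[R] T) ((C ⊗[R] T) ⊗[T] LinearMap.ker π) := by
  let χ : C ⊗[R] T →ₐ[C] C' :=
    Algebra.TensorProduct.lift (Algebra.ofId C C') (IsScalarTower.toAlgHom R T C')
      fun _ _ => Commute.all _ _
  let := χ.toRingHom.toAlgebra
  let := Module.compHom N χ.toRingHom
  have : IsScalarTower (C ⊗[R] T) C' N :=
    IsScalarTower.of_algebraMap_smul fun _ _ => rfl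
  have hχC : ∀ c : C, χ (c ⊗ₜ 1) = algebraMap C C' c := fun c => by simp [χ]
  have hχT : ∀ t : T, χ (1 ⊗ₜ t) = algebraMap T C' t := fun t => by simp [χ]
  have : IsScalarTower C (C ⊗[R] T) C' := IsScalarTower.of_algebraMap_eq fun c => (hχC c).symm
  have : IsScalarTower T (C ⊗[R] T) C' := IsScalarTower.of_algebraMap_eq fun t => (hχT t).symm
  have : IsScalarTower T (C ⊗[R] T) N := IsScalarTower.of_algebraMap_smul fun t x => by
    change χ ((1 : C) ⊗ₜ[R] t) • x = t • x
    rw [hχT, algebraMap_smul]
  have : IsScalarTower C (C ⊗[R] T) N := IsScalarTower.of_algebraMap_smul fun c x => by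
    change χ (c ⊗ₜ[R] (1 : T)) • x = c • x
    rw [hχC, algebraMap_smul]
  have : IsScalarTower R (C ⊗[R] T) C' :=
    IsScalarTower.of_algebraMap_eq fun r => ((χ.restrictScalars R).commutes r).symm
  have hp : Algebra.IsPushout R T' C C' := Algebra.IsPushout.symm inferInstance
  have hp' : Algebra.IsPushout T T' (C ⊗[R] T) C' := (Algebra.IsPushout.comp_iff R T C (C ⊗[R] T)).1 hp
  have : Algebra.IsPushout T (C ⊗[R] T) T' C' := hp'.symm
  have : Module.FinitePresentation (C ⊗[R] T) C' :=
    FinitePresentation.of_isBaseChange _ (Algebra.IsPushout.out (R := T) (S := C ⊗[R] T) (R' := T') (S' := C'))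
  have : Module.FinitePresentation (C ⊗[R] T) N := Module.FinitePresentation.trans (C ⊗[R] T) N C'
  let E : (C ⊗[R] T) ⊗[T] G →ₗ[C ⊗[R] T] N := s.liftBaseChange (C ⊗[R] T)
  have hE : Function.Bijective E := by
    have h : ⇑E ∘ ⇑(Algebra.IsPushout.cancelBaseChange R C T (C ⊗[R] T) G).symm =
        ⇑((s.restrictScalars R).liftBaseChange C) := by
      funext z
      induction z using TensorProduct.induction_on with
      | zero => simp
      | add a b ha hb => simp only [Function.comp_apply, map_add] at ha hb ⊢; rw [ha, hb]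
      | tmul c g =>
        simp only [Function.comp_apply, Algebra.IsPushout.cancelBaseChange_symm_tmul, E,
          LinearMap.liftBaseChange_tmul, LinearMap.restrictScalars_apply, algebraMap_smul]
    rw [← Function.Bijective.of_comp_iff _
      (Algebra.IsPushout.cancelBaseChange R C T (C ⊗[R] T) G).symm.bijective, h]
    exact hs
  have : Module.FinitePresentation (C ⊗[R] T) ((C ⊗[R] T) ⊗[T] G) :=
    Module.FinitePresentation.of_equiv (LinearEquiv.ofBijective E hE).symm
  let ι := (LinearMap.ker π).subtype
  have hex : Function.Exact (ι.baseChange (C ⊗[R] T)) (π.baseChange (C ⊗[R] T)) :=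
    lTensor_exact _ π.exact_subtype_ker_map hπ
  have hfg : (LinearMap.range (ι.baseChange (C ⊗[R] T))).FG := by
    rw [← LinearMap.exact_iff.1 hex]
    exact Module.FinitePresentation.fg_ker _ (LinearMap.lTensor_surjective _ hπ)
  have hinj : Function.Injective (ι.baseChange (C ⊗[R] T)) := by
    have h0 : Function.Injective ((ι.restrictScalars R).lTensor C) :=
      LinearMap.lTensor_injective_of_exact_of_flat (π.restrictScalars R) hπ _ Subtype.val_injective
        π.exact_subtype_ker_map C
    let c₁ := Algebra.IsPushout.cancelBaseChange R C T (C ⊗[R] T) (LinearMap.ker π)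
    let c₂ := Algebra.IsPushout.cancelBaseChange R C T (C ⊗[R] T) (Fin n → T)
    have hc : ∀ z, ι.baseChange (C ⊗[R] T) (c₁.symm z) =
        c₂.symm ((ι.restrictScalars R).lTensor C z) := by
      intro z
      induction z using TensorProduct.induction_on with
      | zero => simp
      | add a b ha hb => simp only [map_add, ha, hb]
      | tmul c l => simp [c₁, c₂]
    intro x y h
    rw [← c₁.symm_apply_apply x, ← c₁.symm_apply_apply y, hc, hc] at h
    exact c₁.injective (h0 (c₂.symm.injective h))
  have := Module.Finite.iff_fg.2 hfg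
  exact Module.Finite.equiv (LinearEquiv.ofInjective _ hinj).symm

theorem subsingleton_corner {R C T : Type u} [CommRing R] [CommRing C] [CommRing T]
    [Algebra R C] [Algebra R T] {L : Type u} [AddCommGroup L] [Module R L] [Module T L]
    [IsScalarTower R T L] [h : Module.Finite (C ⊗[R] T) ((C ⊗[R] T) ⊗[T] L)] :
    ∃ S : Finset L, ∀ W : Submodule T L, (S : Set L) ⊆ W → Subsingleton (C ⊗[R] (L ⧸ W)) := by
  classical
  obtain ⟨s, hs⟩ := h.fg_top
  choose F hF using fun z : (C ⊗[R] T) ⊗[T] L => TensorProduct.exists_finset z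
  refine ⟨s.biUnion fun z => (F z).image Prod.snd, fun W hW => ?_⟩
  have : Subsingleton ((C ⊗[R] T) ⊗[T] (L ⧸ W)) := by
    refine subsingleton_of_forall_eq 0 fun w => ?_
    obtain ⟨z, rfl⟩ := LinearMap.lTensor_surjective (C ⊗[R] T) W.mkQ_surjective w
    change W.mkQ.baseChange (C ⊗[R] T) z = 0
    have hz : z ∈ LinearMap.ker (W.mkQ.baseChange (C ⊗[R] T)) := by
      refine (hs.ge.trans (Submodule.span_le.2 fun z hz => ?_)) Submodule.mem_top
      rw [SetLike.mem_coe, LinearMap.mem_ker, hF z, map_sum]
      refine Finset.sum_eq_zero fun i hi => ?_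
      rw [LinearMap.baseChange_tmul, Submodule.mkQ_apply, (Submodule.Quotient.mk_eq_zero W).2
        (hW (Finset.mem_biUnion.2 ⟨z, hz, Finset.mem_image.2 ⟨i, hi, rfl⟩⟩)), TensorProduct.tmul_zero]
    exact hz
  exact (Algebra.IsPushout.cancelBaseChange R C T (C ⊗[R] T) (L ⧸ W)).symm.toEquiv.subsingleton

end corner

section fp

variable {B' B A' A : Type u} [CommRing B'] [CommRing B] [CommRing A'] [CommRing A]
  [Algebra B' B] [Algebra B' A'] [Algebra B A] [Algebra A' A] [Algebra B' A]
  [IsScalarTower B' B A] [IsScalarTower B' A' A] (hsq : EtMil.IsFibreSquare B' B A' A)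
  {D' D C' C : Type u} [CommRing D'] [CommRing D] [CommRing C'] [CommRing C]
  [Algebra B' D'] [Algebra B D] [Algebra A' C'] [Algebra A C]
  [Algebra D' D] [Algebra B' D] [IsScalarTower B' B D] [IsScalarTower B' D' D] [Algebra.IsPushout B' B D' D]
  [Algebra D' C'] [Algebra B' C'] [IsScalarTower B' A' C'] [IsScalarTower B' D' C'] [Algebra.IsPushout B' A' D' C']
  [Algebra D' C] [Algebra B' C] [IsScalarTower B' A C] [IsScalarTower B' D' C] [Algebra.IsPushout B' A D' C]
  [Algebra D C] [IsScalarTower D' D C] [Algebra B C] [IsScalarTower B A C] [IsScalarTower B D C]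
  [Algebra C' C] [IsScalarTower D' C' C] [Algebra A' C] [IsScalarTower A' A C] [IsScalarTower A' C' C]
  {N M' : Type u} [AddCommGroup N] [Module D N] [Module D' N] [IsScalarTower D' D N]
  [AddCommGroup M'] [Module C' M'] [Module D' M'] [IsScalarTower D' C' M']
  (φ : C ⊗[D] N ≃ₗ[C] C ⊗[C'] M')
  [Module B N] [IsScalarTower B D N] [Module A' M'] [IsScalarTower A' C' M']

section corners
variable [Module B' N] [IsScalarTower B' B N] [IsScalarTower B' D' N]
  [Module B' M'] [IsScalarTower B' A' M'] [IsScalarTower B' D' M']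

include hsq in
theorem glue_corners [Module.Flat B N] [Module.Flat A' M'] :
    Module.Flat B' (EtMil.glue D' φ) ∧
      Function.Bijective (((EtMil.glueFst D' φ).restrictScalars B').liftBaseChange B) ∧
      Function.Bijective (((EtMil.glueSnd D' φ).restrictScalars B').liftBaseChange A') := by
  have : IsScalarTower B' D C := IsScalarTower.of_algebraMap_eq fun r => by
    rw [IsScalarTower.algebraMap_apply B' D' D, ← IsScalarTower.algebraMap_apply D' D C,
      ← IsScalarTower.algebraMap_apply B' D' C]
  have : IsScalarTower B' C' C := IsScalarTower.of_algebraMap_eq fun r => by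
    rw [IsScalarTower.algebraMap_apply B' D' C', ← IsScalarTower.algebraMap_apply D' C' C,
      ← IsScalarTower.algebraMap_apply B' D' C]
  have : Algebra.IsPushout B A D C :=
    (Algebra.IsPushout.comp_iff B' B D' D).1 inferInstance
  have : Algebra.IsPushout A' A C' C :=
    (Algebra.IsPushout.comp_iff B' A' D' C').1 inferInstance
  let eN := Algebra.IsPushout.cancelBaseChange B A D C N
  let eM := Algebra.IsPushout.cancelBaseChange A' A C' C M'
  let φ' : A ⊗[B] N ≃ₗ[A] A ⊗[A'] M' := eN.symm.trans ((φ.restrictScalars A).trans eM)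
  have hmem : ∀ (a : N) (b : M'), (a, b) ∈ EtMil.glue D' φ ↔ (a, b) ∈ EtMil.glue B' φ' := by
    intro a b
    change φ ((1 : C) ⊗ₜ[D] a) = (1 : C) ⊗ₜ[C'] b ↔
      eM (φ (eN.symm ((1 : A) ⊗ₜ[B] a))) = (1 : A) ⊗ₜ[A'] b
    rw [show eN.symm ((1 : A) ⊗ₜ[B] a) = (1 : C) ⊗ₜ[D] a by simp [eN],
      ← Algebra.IsPushout.cancelBaseChange_tmul A' A C' C M' b]
    exact eM.injective.eq_iff.symm
  let j : EtMil.glue D' φ ≃ₗ[B'] EtMil.glue B' φ' :=
    { toFun := fun z => ⟨z.1, (hmem z.1.1 z.1.2).1 z.2⟩
      invFun := fun z => ⟨z.1, (hmem z.1.1 z.1.2).2 z.2⟩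
      map_add' := fun _ _ => rfl
      map_smul' := fun _ _ => rfl
      left_inv := fun _ => rfl
      right_inv := fun _ => rfl }
  have := Groth.Agent.MilnorGlueLib.flat_glue φ' hsq
  refine ⟨Module.Flat.of_linearEquiv j, ?_, ?_⟩
  · have h : ⇑(((EtMil.glueFst D' φ).restrictScalars B').liftBaseChange B) =
        ⇑((EtMil.glueFst B' φ').liftBaseChange B) ∘ ⇑(j.toLinearMap.lTensor B) := by
      funext z
      induction z using TensorProduct.induction_on with
      | zero => simp
      | add a b ha hb => simp only [Function.comp_apply, map_add] at ha hb ⊢; rw [ha, hb]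
      | tmul c g => simp; rfl
    rw [h]
    exact (Groth.Agent.MilnorGlueLib.bijective_glueFst φ' hsq).comp (LinearEquiv.lTensor B j).bijective
  · have h : ⇑(((EtMil.glueSnd D' φ).restrictScalars B').liftBaseChange A') =
        ⇑((EtMil.glueSnd B' φ').liftBaseChange A') ∘ ⇑(j.toLinearMap.lTensor A') := by
      funext z
      induction z using TensorProduct.induction_on with
      | zero => simp
      | add a b ha hb => simp only [Function.comp_apply, map_add] at ha hb ⊢; rw [ha, hb]
      | tmul c g => simp; rfl
    rw [h]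
    exact (Groth.Agent.MilnorGlueLib.bijective_glueSnd φ' hsq).comp (LinearEquiv.lTensor A' j).bijective

end corners

include hsq in
theorem finitePresentation_glue [Module.FinitePresentation D N] [Module.Flat B N]
    [Module.FinitePresentation C' M'] [Module.Flat A' M']
    (T : Type u) [CommRing T] [Algebra B' T] [Algebra T D'] [IsScalarTower B' T D']
    [Module.Flat B' T] (hT : Function.Surjective (algebraMap T D'))
    (hK : (RingHom.ker (algebraMap T D')).FG) :
    Module.FinitePresentation D' (EtMil.glue D' φ) := by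
  classical
  let := Module.compHom N (algebraMap B' B)
  let := Module.compHom M' (algebraMap B' A')
  have : IsScalarTower B' B N := IsScalarTower.of_algebraMap_smul fun _ _ => rfl
  have : IsScalarTower B' A' M' := IsScalarTower.of_algebraMap_smul fun _ _ => rfl
  have : IsScalarTower B' D' N := IsScalarTower.of_algebraMap_smul fun r x => by
    rw [← algebraMap_smul D (algebraMap B' D' r) x, ← IsScalarTower.algebraMap_apply B' D' D,
      IsScalarTower.algebraMap_apply B' B D, algebraMap_smul, algebraMap_smul]
  have : IsScalarTower B' D' M' := IsScalarTower.of_algebraMap_smul fun r x => by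
    rw [← algebraMap_smul C' (algebraMap B' D' r) x, ← IsScalarTower.algebraMap_apply B' D' C',
      IsScalarTower.algebraMap_apply B' A' C', algebraMap_smul, algebraMap_smul]
  let := Module.compHom N (algebraMap T D')
  let := Module.compHom M' (algebraMap T D')
  have : IsScalarTower T D' N := IsScalarTower.of_algebraMap_smul fun _ _ => rfl
  have : IsScalarTower T D' M' := IsScalarTower.of_algebraMap_smul fun _ _ => rfl
  let := ((algebraMap D' D).comp (algebraMap T D')).toAlgebra
  have : IsScalarTower T D' D := IsScalarTower.of_algebraMap_eq fun _ => rfl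
  have : IsScalarTower B' T D := IsScalarTower.of_algebraMap_eq fun r => by
    rw [IsScalarTower.algebraMap_apply T D' D, ← IsScalarTower.algebraMap_apply B' T D',
      ← IsScalarTower.algebraMap_apply B' D' D]
  have : IsScalarTower T D N := IsScalarTower.of_algebraMap_smul fun t x => by
    rw [IsScalarTower.algebraMap_apply T D' D, algebraMap_smul, algebraMap_smul]
  let := ((algebraMap D' C').comp (algebraMap T D')).toAlgebra
  have : IsScalarTower T D' C' := IsScalarTower.of_algebraMap_eq fun _ => rfl
  have : IsScalarTower B' T C' := IsScalarTower.of_algebraMap_eq fun r => by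
    rw [IsScalarTower.algebraMap_apply T D' C', ← IsScalarTower.algebraMap_apply B' T D',
      ← IsScalarTower.algebraMap_apply B' D' C']
  have : IsScalarTower T C' M' := IsScalarTower.of_algebraMap_smul fun t x => by
    rw [IsScalarTower.algebraMap_apply T D' C', algebraMap_smul, algebraMap_smul]
  have : IsScalarTower B' T N := IsScalarTower.of_algebraMap_smul fun r x => by
    rw [← algebraMap_smul D' (algebraMap B' T r) x, ← IsScalarTower.algebraMap_apply B' T D',
      algebraMap_smul]
  have : IsScalarTower B' T M' := IsScalarTower.of_algebraMap_smul fun r x => by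
    rw [← algebraMap_smul D' (algebraMap B' T r) x, ← IsScalarTower.algebraMap_apply B' T D',
      algebraMap_smul]
  obtain ⟨hflat, hbN, hbM⟩ := glue_corners (D' := D') hsq φ
  obtain ⟨hC, hW⟩ := weak_square hsq D' D C' C
  have := finite_glue (D' := D') φ
    (surjective_of_pushout (Groth.Agent.MilnorFlatLib.surjective_fst hsq) D' D) hC hW
  have : Module.Finite T D' := Module.Finite.of_surjective (Algebra.linearMap T D') hT
  have : Module.FinitePresentation T D' :=
    Module.finitePresentation_of_surjective (Algebra.linearMap T D') hT hK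
  have : Module.Finite T (EtMil.glue D' φ) := Module.Finite.trans D' _
  obtain ⟨n, π, hπ⟩ := Module.Finite.exists_fin' T (EtMil.glue D' φ)
  have h1 := finite_corner (R := B') (C := B) (T' := D') (C' := D) (N := N)
    ((EtMil.glueFst D' φ).restrictScalars T) hbN π hπ
  have h2 := finite_corner (R := B') (C := A') (T' := D') (C' := C') (N := M')
    ((EtMil.glueSnd D' φ).restrictScalars T) hbM π hπ
  obtain ⟨S₁, hS₁⟩ := subsingleton_corner (R := B') (C := B) (T := T) (L := LinearMap.ker π)
  obtain ⟨S₂, hS₂⟩ := subsingleton_corner (R := B') (C := A') (T := T) (L := LinearMap.ker π)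
  let W : Submodule T (LinearMap.ker π) := Submodule.span T ((S₁ ∪ S₂ : Finset _) : Set _)
  have := hS₁ W fun x hx => Submodule.subset_span (Finset.mem_union_left _ hx)
  have := hS₂ W fun x hx => Submodule.subset_span (Finset.mem_union_right _ hx)
  have hQ := Groth.Agent.MilnorGlueLib.subsingleton_of_square hsq (LinearMap.ker π ⧸ W)
  have : Module.Finite T (LinearMap.ker π) :=
    ⟨⟨S₁ ∪ S₂, Submodule.Quotient.subsingleton_iff.1 hQ⟩⟩
  have : Module.FinitePresentation T (EtMil.glue D' φ) :=
    Module.finitePresentation_of_surjective π hπ (Module.Finite.iff_fg.1 this)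
  let μ : D' ⊗[T] EtMil.glue D' φ →ₗ[D'] EtMil.glue D' φ := LinearMap.id.liftBaseChange D'
  have hμ : Function.Bijective μ := by
    refine ⟨fun x y h => ?_, fun z => ⟨1 ⊗ₜ z, by simp [μ]⟩⟩
    have key : ∀ w : D' ⊗[T] EtMil.glue D' φ, ∃ z, w = (1 : D') ⊗ₜ[T] z := fun w => by
      induction w using TensorProduct.induction_on with
      | zero => exact ⟨0, (TensorProduct.tmul_zero _ _).symm⟩
      | add a b ha hb =>
        obtain ⟨a, rfl⟩ := ha
        obtain ⟨b, rfl⟩ := hb
        exact ⟨a + b, (TensorProduct.tmul_add _ _ _).symm⟩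
      | tmul d z =>
        obtain ⟨t, rfl⟩ := hT d
        exact ⟨t • z, by rw [Algebra.algebraMap_eq_smul_one, TensorProduct.smul_tmul]⟩
    obtain ⟨x, rfl⟩ := key x
    obtain ⟨y, rfl⟩ := key y
    simp only [μ, LinearMap.liftBaseChange_tmul, LinearMap.id_coe, id_eq, one_smul] at h
    rw [h]
  exact Module.FinitePresentation.of_equiv (LinearEquiv.ofBijective μ hμ)

end fp

end Groth.Agent.MilnorRelLib
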